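import Cfsg.Agent.Lib.Presented.Fi23SylowTwo.Model

/-!
The group generated by the fourteen elements: tables and their checks.
-/

set_option autoImplicit false
set_option maxRecDepth 20000

noncomputable section

namespace CfsgLib.Presented.Fi23SylowTwo

/-- The letters of a vector. -/
def vecWord : ℕ → ℕ → List ℕ
  | 0, _ => []
  | k + 1, m => vecWord k m ++ bif m.testBit k then [k] else []

/-- The letters of a class. -/
def clsWord (v : ℕ) : List ℕ := (quotWords.getD v []).map (· + 11)

/-- The next class. -/
def stepC (v i : ℕ) : ℕ := (stepCls >>> (7 * (3 * v + i))) % 128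

/-- The vector left over. -/
def stepE (v i : ℕ) : ℕ := (stepErr >>> (11 * (3 * v + i))) % 2048

/-- A column of the action. -/
def col (v j : ℕ) : ℕ := (actCols >>> (11 * (11 * v + j))) % 2048

/-- The action on vectors. -/
def act (v : ℕ) : ℕ → ℕ → ℕ
  | 0, _ => 0
  | k + 1, m => act v k m ^^^ bif m.testBit k then col v k else 0

/-- The product of classes. -/
def mulC (v u : ℕ) : ℕ := (mulTab >>> (7 * (128 * v + u))) % 128

theorem quot_shape : ((List.range 128).all fun v => (quotWords.getD v []).all fun i => Nat.blt i 3) = true ∧
    quotWords.getD 0 [] = [] := by decide +kernel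

theorem square_ok : ((List.range 14).all fun g => same [g, g] []) = true := by decide +kernel

theorem comm_ok : ((List.range 11).all fun j => (List.range 11).all fun k => same [j, k] [k, j]) = true := by
  decide +kernel

theorem step_ok : ((List.range 128).all fun v => (List.range 3).all fun i =>
    same (clsWord v ++ [11 + i]) (vecWord 11 (stepE v i) ++ clsWord (stepC v i))) = true := by
  decide +kernel

theorem col_ok : ((List.range 128).all fun v => (List.range 11).all fun j =>
    same (clsWord v ++ [j]) (vecWord 11 (col v j) ++ clsWord v)) = true := by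
  decide +kernel

/-- Some rigid point moves. -/
def moves (w : List ℕ) : Bool :=
  (List.range 6).any fun k => !(om (wImg w (xPos.getD k 0)) == om (xPos.getD k 0))

theorem move_ok : ((List.range 2047).all fun m => moves (vecWord 11 (m + 1))) = true := by decide +kernel

theorem key_ok : ((List.range 128).all fun v =>
    (List.range 11).all fun j => (actKeys.getD v 0 >>> (11 * j)) % 2048 == col v j) = true ∧
    actKeys.length = 128 ∧ actKeys.Nodup := by
  decide +kernel

theorem mul_ok : ((List.range 128).all fun v => (List.range 128).all fun u =>
    mulC v u == (quotWords.getD u []).foldl stepC v) = true := by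
  decide +kernel

/-- The vectors with a bit at `k`. -/
def coord (k : ℕ) : ℕ := coordPlanes.getD k 0

theorem coord_ok : ((List.range 11).all fun k => (List.range 2048).all fun m =>
    (coord k).testBit m == m.testBit k) = true := by
  decide +kernel

/-- Bit `i` of the moved part of all vectors, through the first `k` coordinates. -/
def plane (v i : ℕ) : ℕ → ℕ
  | 0 => 0
  | k + 1 => plane v i k ^^^ bif (col v k ^^^ 2 ^ k).testBit i then coord k else 0

/-- The vectors moved within the first `n` bits. -/
def movedMask (v : ℕ) : ℕ → ℕ
  | 0 => 0
  | n + 1 => movedMask v n ||| plane v n 11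

theorem fix_table : ((List.range 128).all fun v =>
    fixMasks.getD v 0 == (2 ^ 2048 - 1) ^^^ movedMask v 11) = true := by
  decide +kernel

/-- The low part of a vector. -/
def lowPart : ℕ → ℕ → ℕ
  | 0, _ => 0
  | k + 1, m => lowPart k m ^^^ bif m.testBit k then 2 ^ k else 0

theorem lowPart_testBit (m i : ℕ) : ∀ k, (lowPart k m).testBit i = (decide (i < k) && m.testBit i)
  | 0 => by simp [lowPart]
  | k + 1 => by
    rw [lowPart, Nat.testBit_xor, lowPart_testBit m i k]
    rcases Nat.lt_trichotomy i k with h | h | h
    · have h' : (2 ^ k).testBit i = false := by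
        rw [Nat.testBit_two_pow]; exact decide_eq_false h.ne'
      cases m.testBit k <;> simp [h, h', Nat.lt_succ_of_lt h]
    · subst h
      cases hm : m.testBit i <;> simp [Nat.testBit_two_pow]
    · have h' : (2 ^ k).testBit i = false := by
        rw [Nat.testBit_two_pow]; exact decide_eq_false h.ne
      cases m.testBit k <;> simp [h', show ¬ i < k by omega, show ¬ i < k + 1 by omega]

theorem lowPart_eq {m : ℕ} (hm : m < 2 ^ 11) : lowPart 11 m = m := by
  refine Nat.eq_of_testBit_eq fun i => ?_
  rw [lowPart_testBit]
  rcases Nat.lt_or_ge i 11 with h | h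
  · simp [h]
  · rw [Nat.testBit_lt_two_pow (hm.trans_le (Nat.pow_le_pow_right (by norm_num) h))]
    simp

theorem plane_testBit {v i m : ℕ} (hm : m < 2048) : ∀ k ≤ 11,
    (plane v i k).testBit m = (act v k m ^^^ lowPart k m).testBit i
  | 0, _ => by simp [plane, act, lowPart]
  | k + 1, hk => by
    have hc := coord_ok
    simp only [List.all_eq_true, List.mem_range, beq_iff_eq] at hc
    have hk' := hc k (by omega) m hm
    have h1 : ∀ b : Bool, (bif b then coord k else 0).testBit m = (b && m.testBit k) := by
      intro b; cases b <;> simp [hk']
    rw [plane, act, lowPart, Nat.testBit_xor, plane_testBit hm k (by omega), h1]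
    cases m.testBit k
    · simp
    · simp only [Bool.and_true, cond_true, Nat.testBit_xor]
      cases (act v k m).testBit i <;> cases (lowPart k m).testBit i <;>
        cases (col v k).testBit i <;> cases (2 ^ k).testBit i <;> rfl

theorem movedMask_testBit {v m : ℕ} (hm : m < 2048) : ∀ n,
    (movedMask v n).testBit m = true ↔ ∃ i < n, (act v 11 m ^^^ m).testBit i = true
  | 0 => by simp [movedMask]
  | n + 1 => by
    rw [movedMask, Nat.testBit_or, Bool.or_eq_true, movedMask_testBit hm n,
      plane_testBit hm 11 le_rfl, lowPart_eq hm]
    constructor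
    · rintro (⟨i, hi, h⟩ | h)
      · exact ⟨i, Nat.lt_succ_of_lt hi, h⟩
      · exact ⟨n, Nat.lt_succ_self n, h⟩
    · rintro ⟨i, hi, h⟩
      rcases Nat.lt_succ_iff_lt_or_eq.1 hi with hi | rfl
      · exact Or.inl ⟨i, hi, h⟩
      · exact Or.inr h

theorem act_below (v : ℕ) : ∀ k m, act v k m < 2 ^ 11
  | 0, _ => by simp [act]
  | k + 1, m => by
    refine Nat.xor_lt_two_pow (act_below v k m) ?_
    cases m.testBit k
    · simp
    · exact Nat.mod_lt _ (by norm_num)

/-- The table of fixed vectors agrees with the action. -/
theorem fix_ok : ((List.range 128).all fun v => (List.range 2048).all fun m =>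
    (fixMasks.getD v 0).testBit m == (act v 11 m == m)) = true := by
  simp only [List.all_eq_true, List.mem_range, beq_iff_eq]
  intro v hv m hm
  have ht := fix_table
  simp only [List.all_eq_true, List.mem_range, beq_iff_eq] at ht
  rw [ht v hv, Nat.testBit_xor, Nat.testBit_two_pow_sub_one, decide_eq_true hm, Bool.true_xor,
    Bool.eq_iff_iff, Bool.not_eq_true', ← Bool.not_eq_true, movedMask_testBit hm, beq_iff_eq]
  constructor
  · intro h
    refine Nat.eq_of_testBit_eq fun i => ?_
    rcases Nat.lt_or_ge i 11 with hi | hi
    · have h1 : ¬ (act v 11 m ^^^ m).testBit i = true := fun e => h ⟨i, hi, e⟩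
      rw [Nat.testBit_xor] at h1
      revert h1
      cases (act v 11 m).testBit i <;> cases m.testBit i <;> simp
    · have hp := Nat.pow_le_pow_right (show 0 < 2 by norm_num) hi
      rw [Nat.testBit_lt_two_pow ((act_below v 11 m).trans_le hp),
        Nat.testBit_lt_two_pow ((show m < 2 ^ 11 from hm).trans_le hp)]
  · rintro h ⟨i, -, hi⟩
    rw [h, Nat.xor_self, Nat.zero_testBit] at hi
    exact Bool.false_ne_true hi

theorem fix_count : ((List.range 127).all fun v => Nat.ble (bitCount (fixMasks.getD (v + 1) 0) 2048) 128) =
    true := by
  decide +kernel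

/-- The conditions at a set of classes. -/
def leafOK (st : List ℕ) : Bool :=
  Nat.ble st.length 1 || Nat.ble st.length 8 || (Nat.ble st.length 16 && st.any fun v =>
    !(v == 0) && st.any fun u => !((fixMasks.getD v 0) &&& (fixMasks.getD u 0) == fixMasks.getD v 0))

/-- Two classes commute. -/
def commC (v u : ℕ) : Bool := mulC v u == mulC u v

/-- All commuting sets of involutory classes. -/
def search : ℕ → List ℕ → List ℕ → Bool
  | 0, _, _ => false
  | _ + 1, st, [] => leafOK st
  | f + 1, st, v :: r =>
    if st.contains v then search f st r
    else search f st r &&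
      (!(st.all (commC v)) || search f (st ++ st.map (mulC v)) (r.filter (commC v)))

/-- The classes of order at most two, without the trivial one. -/
def involCls : List ℕ := ((List.range 127).map (· + 1)).filter fun v => mulC v v == 0

theorem search_ok : search 200 [0] involCls = true := by decide +kernel

end CfsgLib.Presented.Fi23SylowTwo

end
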