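import Cfsg.Agent.Lib.Presented.Fi23SylowTwo.Points
import Cfsg.Agent.Lib.Presented.Fi23SylowTwo.Data

/-!
Fourteen elements of the presented Fischer group on 23 letters and their action on the followed
points: an identity between their products holds as soon as it holds on the rigid points.
-/

set_option autoImplicit false
set_option maxRecDepth 20000

noncomputable section

namespace CfsgLib.Presented.Fi23SylowTwo

open Fi23Cosets (ev ev_one ev_inv phi phi_ev rep_valid gen_top)

/-- A followed point. -/
def om (i : ℕ) : ℕ := omPts.getD i 0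

/-- The image under a generator. -/
def tImg (g i : ℕ) : ℕ := ((sylTabs.getD g 0) >>> (10 * i)) % 1024

/-- The image under a word. -/
def wImg : List ℕ → ℕ → ℕ
  | [], i => i
  | g :: w, i => tImg g (wImg w i)

/-- The generators. -/
def sg (g : ℕ) : Cfsg.Spor.Fi23 := evW ev (sylWords.getD g [])

/-- The check for one generator and one slice. -/
def sliceOK (g b : ℕ) : Bool :=
  Vec.force (Vec.applyNet (Fi23Cert.rep.netW (sylWords.getD g [])) ((Vec.slices Fi23Cert.rep.m).getD b 0))
    fun V => Vec.force ((Vec.slices Fi23Cert.rep.m).getD b 0) fun s =>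
      (omPts.zip (List.range 951)).all fun pi => V.testBit pi.1 == s.testBit (omPts.getD (tImg g pi.2) 0)

/-- The shape of the data. -/
def shapeOK : Bool :=
  omPts.length == 951 && omPts.all (fun p => Nat.blt p 31671) &&
    sylWords.all (fun w => w.all fun x => Nat.blt x 10) &&
    sylTabs.length == 14 && sylWords.length == 14 &&
    (List.range 14).all fun g => (List.range 951).all fun i => Nat.blt (tImg g i) 951

theorem shape_ok : shapeOK = true := by decide +kernel

theorem slice_ok0 : ((List.range' 0 4).all fun g => (List.range 15).all fun b => sliceOK g b) =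
    true := by
  decide +kernel

theorem slice_ok4 : ((List.range' 4 4).all fun g => (List.range 15).all fun b => sliceOK g b) =
    true := by
  decide +kernel

theorem slice_ok8 : ((List.range' 8 3).all fun g => (List.range 15).all fun b => sliceOK g b) =
    true := by
  decide +kernel

theorem slice_ok11 : ((List.range' 11 3).all fun g => (List.range 15).all fun b => sliceOK g b) =
    true := by
  decide +kernel

theorem slice_ok : ((List.range 14).all fun g => (List.range 15).all fun b => sliceOK g b) = true := by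
  refine List.all_eq_true.2 fun g hg => ?_
  rw [List.mem_range] at hg
  rcases Nat.lt_or_ge g 4 with h | h
  · exact List.all_eq_true.1 slice_ok0 g (List.mem_range'_1.2 (by omega))
  rcases Nat.lt_or_ge g 8 with h' | h'
  · exact List.all_eq_true.1 slice_ok4 g (List.mem_range'_1.2 (by omega))
  rcases Nat.lt_or_ge g 11 with h'' | h''
  · exact List.all_eq_true.1 slice_ok8 g (List.mem_range'_1.2 (by omega))
  · exact List.all_eq_true.1 slice_ok11 g (List.mem_range'_1.2 (by omega))

theorem om_lt {i : ℕ} (hi : i < 951) : om i < 31671 := by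
  have h := shape_ok
  simp only [shapeOK, Bool.and_eq_true, beq_iff_eq, List.all_eq_true, Nat.blt_eq] at h
  have hl : i < omPts.length := by rw [h.1.1.1.1.1]; exact hi
  rw [om, List.getD_eq_getElem _ _ hl]
  exact h.1.1.1.1.2 _ (List.getElem_mem hl)

theorem tImg_lt {g i : ℕ} (hg : g < 14) (hi : i < 951) : tImg g i < 951 := by
  have h := shape_ok
  simp only [shapeOK, Bool.and_eq_true, beq_iff_eq, List.all_eq_true, Nat.blt_eq, List.mem_range] at h
  exact h.2 g hg i hi

theorem sylWord_lt (g : ℕ) : ∀ x ∈ sylWords.getD g [], x < 10 := by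
  intro x hx
  have h := shape_ok
  simp only [shapeOK, Bool.and_eq_true, beq_iff_eq, List.all_eq_true, Nat.blt_eq] at h
  rcases Nat.lt_or_ge g sylWords.length with hg | hg
  · rw [List.getD_eq_getElem _ _ hg] at hx
    exact h.1.1.1.2 _ (List.getElem_mem hg) x hx
  · rw [List.getD_eq_default _ _ hg] at hx
    exact absurd hx List.not_mem_nil

/-- A followed point. -/
def omPt (i : ℕ) : Pt := if h : om i < Fi23Cert.rep.N then ⟨om i, h⟩ else zeroPt

theorem omPt_val {i : ℕ} (hi : i < 951) : (omPt i : ℕ) = om i := by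
  rw [omPt, dif_pos (show om i < Fi23Cert.rep.N from om_lt hi)]

theorem phi_sg {g i : ℕ} (hg : g < 14) (hi : i < 951) : phi (sg g) (omPt i) = omPt (tImg g i) := by
  apply Fin.ext
  rw [sg, phi_evW_val (sylWord_lt g), omPt_val hi, omPt_val (tImg_lt hg hi)]
  have hlen : omPts.length = 951 := by
    have h := shape_ok
    simp only [shapeOK, Bool.and_eq_true, beq_iff_eq] at h
    exact h.1.1.1.1.1
  refine Vec.eq_of_slices (m := Fi23Cert.rep.m) ?_ ?_ fun s hs => ?_
  · have h2 := (phi (sg g) (omPt i)).2
    rw [sg, phi_evW_val (sylWord_lt g), omPt_val hi] at h2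
    exact lt_of_lt_of_le h2 (Rep.valid_spec rep_valid).2.1
  · exact lt_of_lt_of_le (show om (tImg g i) < Fi23Cert.rep.N from om_lt (tImg_lt hg hi))
      (Rep.valid_spec rep_valid).2.1
  · obtain ⟨b, hb, rfl⟩ := List.getElem_of_mem hs
    have hm : Fi23Cert.rep.m = 15 := rfl
    have hb' : b < 15 := by
      have := (Vec.slices_spec Fi23Cert.rep.m).1
      omega
    have h := List.all_eq_true.1 (List.all_eq_true.1 slice_ok g (List.mem_range.2 hg)) b
      (List.mem_range.2 hb')
    rw [sliceOK, Vec.force_eq, Vec.force_eq, List.all_eq_true] at h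
    have hmem : (omPts[i]'(hlen ▸ hi), i) ∈ omPts.zip (List.range 951) := by
      refine List.mem_iff_getElem.2 ⟨i, by simp [List.length_zip, hlen, hi], by simp⟩
    have h1 := h _ hmem
    simp only [beq_iff_eq] at h1
    rw [Vec.testBit_applyNet (Rep.netOk_netW rep_valid _), List.getD_eq_getElem _ _ hb] at h1
    have e : om i = omPts[i]'(hlen ▸ hi) := by rw [om, List.getD_eq_getElem _ _ (hlen ▸ hi)]
    rw [e]
    exact h1

theorem phi_word : ∀ {w : List ℕ}, (∀ g ∈ w, g < 14) → ∀ {i : ℕ}, i < 951 →
    phi (evW sg w) (omPt i) = omPt (wImg w i) ∧ wImg w i < 951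
  | [], _, i, hi => by simp [wImg, hi]
  | g :: w, hw, i, hi => by
    obtain ⟨h1, h2⟩ := phi_word (fun x hx => hw x (List.mem_cons_of_mem g hx)) hi
    rw [evW_cons, map_mul, Equiv.Perm.mul_apply, h1, phi_sg (hw g List.mem_cons_self) h2]
    exact ⟨rfl, tImg_lt (hw g List.mem_cons_self) h2⟩

/-- The transposition of a rigid point, as a word. -/
def xWord (k : ℕ) : List ℕ := xWords.getD k [] ++ 0 :: (xWords.getD k []).reverse

/-- Applying letters to a point. -/
def netImg (w : List ℕ) (p : ℕ) : ℕ := (Fi23Cert.rep.netW w).foldr (fun s p => s.swp p) p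

theorem netImg_eq : ∀ (l : List Vec.Stage) (p : ℕ), l.foldr (fun s p => s.swp p) p = Vec.netPerm l p
  | [], p => rfl
  | s :: l, p => by
    rw [List.foldr_cons, netImg_eq l p, show Vec.netPerm (s :: l) = s.perm * Vec.netPerm l by
      simp [Vec.netPerm]]
    rfl

/-- The points of the chains. -/
def chainImg : List ℕ → ℕ → ℕ
  | [], p => p
  | k :: c, p => netImg (xWord k) (chainImg c p)

/-- The point of a generator, computed. -/
def genPtN : ℕ → ℕ
  | 1 => netImg ([0, 1] ++ Fi23Simple.conjWord) 0
  | 2 => netImg ([1, 2, 0, 1] ++ Fi23Simple.conjWord) 0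
  | 3 => netImg ([2, 3, 1, 2, 0, 1] ++ Fi23Simple.conjWord) 0
  | 4 => netImg ([3, 4, 2, 3, 1, 2, 0, 1] ++ Fi23Simple.conjWord) 0
  | 5 => netImg ([4, 5, 3, 4, 2, 3, 1, 2, 0, 1] ++ Fi23Simple.conjWord) 0
  | 6 => netImg ([5, 6, 4, 5, 3, 4, 2, 3, 1, 2, 0, 1] ++ Fi23Simple.conjWord) 0
  | 7 => netImg ([6, 7, 5, 6, 4, 5, 3, 4, 2, 3, 1, 2, 0, 1] ++ Fi23Simple.conjWord) 0
  | 8 => netImg ([3, 8, 2, 3, 1, 2, 0, 1] ++ Fi23Simple.conjWord) 0
  | 9 => netImg ([8, 9, 3, 8, 2, 3, 1, 2, 0, 1] ++ Fi23Simple.conjWord) 0
  | _ => netImg Fi23Simple.conjWord 0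

/-- The check for one of the rigid points. -/
def pointOK (k : ℕ) : Bool := netImg (xWords.getD k [] ++ Fi23Simple.conjWord) 0 == om (xPos.getD k 0)

/-- The check for one generator's chain. -/
def chainOK (j : ℕ) : Bool :=
  (genChains.getD j ([], 6)).1.all (fun k => Nat.blt k 6) && Nat.blt (genChains.getD j ([], 6)).2 6 &&
    chainImg (genChains.getD j ([], 6)).1 (om (xPos.getD (genChains.getD j ([], 6)).2 0)) == genPtN j

/-- The checks for the rigid points. -/
def rigidOK : Bool :=
  xPos.length == 6 && xWords.all (fun w => w.all fun x => Nat.blt x 10) &&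
    xPos.all (fun i => Nat.blt i 951) &&
    (List.range 6).all (fun k => netImg (xWords.getD k [] ++ Fi23Simple.conjWord) 0 == om (xPos.getD k 0)) &&
    (List.range 10).all fun j => (genChains.getD j ([], 6)).1.all (fun k => Nat.blt k 6) &&
      Nat.blt (genChains.getD j ([], 6)).2 6 &&
      chainImg (genChains.getD j ([], 6)).1 (om (xPos.getD (genChains.getD j ([], 6)).2 0)) == genPtN j

theorem rigid_base : (xPos.length == 6 && xWords.all (fun w => w.all fun x => Nat.blt x 10) &&
    xPos.all (fun i => Nat.blt i 951)) = true := by decide +kernel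

theorem point_ok0 : ((List.range 3).all fun k => pointOK k) = true := by decide +kernel

theorem point_ok1 : ((List.range' 3 3).all fun k => pointOK k) = true := by decide +kernel

theorem chain_ok0 : chainOK 0 = true := by decide +kernel

theorem chain_ok1 : chainOK 1 = true := by decide +kernel

theorem chain_ok2 : chainOK 2 = true := by decide +kernel

theorem chain_ok3 : chainOK 3 = true := by decide +kernel

theorem chain_ok4 : chainOK 4 = true := by decide +kernel

theorem chain_ok5 : chainOK 5 = true := by decide +kernel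

theorem chain_ok6 : chainOK 6 = true := by decide +kernel

theorem chain_ok7 : chainOK 7 = true := by decide +kernel

theorem chain_ok8 : chainOK 8 = true := by decide +kernel

theorem chain_ok9 : chainOK 9 = true := by decide +kernel

theorem rigid_ok : rigidOK = true := by
  rw [rigidOK, Bool.and_eq_true, Bool.and_eq_true]
  refine ⟨⟨rigid_base, List.all_eq_true.2 fun k hk => ?_⟩, List.all_eq_true.2 fun j hj => ?_⟩
  · rw [List.mem_range] at hk
    rcases Nat.lt_or_ge k 3 with h | h
    · exact List.all_eq_true.1 point_ok0 k (List.mem_range.2 h)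
    · exact List.all_eq_true.1 point_ok1 k (List.mem_range'_1.2 ⟨h, hk⟩)
  · rw [List.mem_range] at hj
    match j, hj with
    | 0, _ => exact chain_ok0
    | 1, _ => exact chain_ok1
    | 2, _ => exact chain_ok2
    | 3, _ => exact chain_ok3
    | 4, _ => exact chain_ok4
    | 5, _ => exact chain_ok5
    | 6, _ => exact chain_ok6
    | 7, _ => exact chain_ok7
    | 8, _ => exact chain_ok8
    | 9, _ => exact chain_ok9
    | _ + 10, h => omega

theorem conj_lt : ∀ x ∈ Fi23Simple.conjWord, x < 10 := by decide +kernel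

theorem netImg_pt {w : List ℕ} (hw : ∀ x ∈ w, x < 10) (p : Pt) :
    (phi (evW ev w) p : ℕ) = netImg w p := by
  rw [phi_evW_val hw, netImg, netImg_eq]

theorem xWord_lt {k : ℕ} : ∀ x ∈ xWord k, x < 10 := by
  have h := rigid_ok
  simp only [rigidOK, Bool.and_eq_true, List.all_eq_true, Nat.blt_eq] at h
  have hw : ∀ x ∈ xWords.getD k [], x < 10 := by
    intro x hx
    rcases Nat.lt_or_ge k xWords.length with hk | hk
    · rw [List.getD_eq_getElem _ _ hk] at hx
      exact h.1.1.1.2 _ (List.getElem_mem hk) x hx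
    · rw [List.getD_eq_default _ _ hk] at hx
      exact absurd hx List.not_mem_nil
  intro x hx
  simp only [xWord, List.mem_append, List.mem_cons, List.mem_reverse] at hx
  rcases hx with hx | rfl | hx
  · exact hw x hx
  · norm_num
  · exact hw x hx

theorem evW_reverse {w : List ℕ} (hw : ∀ x ∈ w, x < 10) : evW ev w.reverse = (evW ev w)⁻¹ := by
  induction w with
  | nil => simp
  | cons x w ih =>
    rw [List.reverse_cons, evW_append, ih fun y hy => hw y (List.mem_cons_of_mem x hy), evW_cons,
      evW_nil, mul_one, evW_cons, mul_inv_rev]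
    rw [inv_eq_of_mul_eq_one_left (Fi23Simple.sq_one (show x < Fi23Cert.alphabet.eps from hw x List.mem_cons_self))]

theorem tau_xPt {k : ℕ} (hk : k < 6) : tau (omPt (xPos.getD k 0)) = evW ev (xWord k) := by
  have h := rigid_ok
  simp only [rigidOK, Bool.and_eq_true, List.all_eq_true, Nat.blt_eq, beq_iff_eq, List.mem_range] at h
  have hpos : xPos.getD k 0 < 951 := by
    rw [List.getD_eq_getElem _ _ (h.1.1.1.1.symm ▸ hk)]
    exact h.1.1.2 _ (List.getElem_mem _)
  have hw : ∀ x ∈ xWords.getD k [], x < 10 := fun x hx => xWord_lt (k := k) x (List.mem_append_left _ hx)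
  have hp : phi (evW ev (xWords.getD k [])) aPt = omPt (xPos.getD k 0) := by
    apply Fin.ext
    rw [omPt_val hpos, ← h.1.2 k hk, aPt, ← Equiv.Perm.mul_apply, ← map_mul, ← evW_append,
      netImg_pt (by
        intro x hx
        rcases List.mem_append.1 hx with hx | hx
        · exact hw x hx
        · exact conj_lt x hx)]
    rfl
  rw [← hp, tau_phi, xWord, evW_append, evW_cons, evW_reverse hw, mul_assoc]

theorem genPt_val {j : ℕ} (hj : j < 10) : (genPt j : ℕ) = genPtN j := by
  have h : ∀ w : List ℕ, (∀ x ∈ w, x < 10) →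
      (phi (evW ev w) aPt : ℕ) = netImg (w ++ Fi23Simple.conjWord) 0 := by
    intro w hw
    rw [aPt, ← Equiv.Perm.mul_apply, ← map_mul, ← evW_append, netImg_pt (by
        intro x hx
        rcases List.mem_append.1 hx with hx | hx
        · exact hw x hx
        · exact conj_lt x hx)]
    rfl
  have h2 : phi (ev 1 * ev 2) (phi (ev 0 * ev 1) aPt) = phi (evW ev [1, 2, 0, 1]) aPt := by
    simp only [evW_cons, evW_nil, mul_one, ← Equiv.Perm.mul_apply, ← map_mul, mul_assoc]
  have h3 : phi (ev 2 * ev 3) (phi (ev 1 * ev 2) (phi (ev 0 * ev 1) aPt)) =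
      phi (evW ev [2, 3, 1, 2, 0, 1]) aPt := by
    simp only [evW_cons, evW_nil, mul_one, ← Equiv.Perm.mul_apply, ← map_mul, mul_assoc]
  have h1 : phi (ev 0 * ev 1) aPt = phi (evW ev [0, 1]) aPt := by
    simp only [evW_cons, evW_nil, mul_one]
  interval_cases j
  · exact netImg_pt conj_lt zeroPt
  · rw [genPt, h1]; exact h _ (by decide)
  · rw [genPt, h2]; exact h _ (by decide)
  · rw [genPt, h3]; exact h _ (by decide)
  all_goals exact h _ (by decide)

/-- An element fixing the rigid points is trivial. -/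
theorem eq_one_of_fix {g : Cfsg.Spor.Fi23}
    (h : ∀ k < 6, phi g (omPt (xPos.getD k 0)) = omPt (xPos.getD k 0)) : g = 1 := by
  have hc := rigid_ok
  simp only [rigidOK, Bool.and_eq_true, List.all_eq_true, Nat.blt_eq, beq_iff_eq, List.mem_range] at hc
  refine eq_one_of_commute fun j hj => ?_
  obtain ⟨⟨hch, hst⟩, himg⟩ := hc.2 j hj
  have hxpos : ∀ k < 6, xPos.getD k 0 < 951 := by
    intro k hk
    rw [List.getD_eq_getElem _ _ (hc.1.1.1.1.symm ▸ hk)]
    exact hc.1.1.2 _ (List.getElem_mem _)
  suffices key : ∀ (c : List ℕ), (∀ k ∈ c, k < 6) → ∀ s < 6, ∃ p : Pt,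
      (p : ℕ) = chainImg c (om (xPos.getD s 0)) ∧ g * tau p = tau p * g by
    obtain ⟨p, hp, hcomm⟩ := key _ hch _ hst
    have : p = genPt j := Fin.ext (by rw [hp, himg, genPt_val hj])
    rwa [← this]
  intro c
  induction c with
  | nil =>
    intro _ s hs
    exact ⟨omPt (xPos.getD s 0), omPt_val (hxpos s hs), commute_of_fix (h s hs)⟩
  | cons k c ih =>
    intro hcl s hs
    obtain ⟨p, hp, hcomm⟩ := ih (fun y hy => hcl y (List.mem_cons_of_mem k hy)) s hs
    have hk := hcl k List.mem_cons_self
    refine ⟨phi (evW ev (xWord k)) p, ?_, ?_⟩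
    · rw [netImg_pt xWord_lt, hp]
      rfl
    · have h1 : g * evW ev (xWord k) = evW ev (xWord k) * g := tau_xPt hk ▸ commute_of_fix (h k hk)
      rw [tau_conj]
      generalize evW ev (xWord k) = d at h1 ⊢
      generalize tau p = t at hcomm ⊢
      have h2 : g * d⁻¹ = d⁻¹ * g :=
        ((Commute.inv_right (show Commute g d from h1))).eq
      calc g * (d * t * d⁻¹) = (g * d) * t * d⁻¹ := by group
        _ = d * (g * t) * d⁻¹ := by rw [h1]; group
        _ = d * t * (g * d⁻¹) := by rw [hcomm]; group
        _ = d * t * d⁻¹ * g := by rw [h2]; group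

/-- The two words act alike on the rigid points. -/
def same (w u : List ℕ) : Bool :=
  (List.range 6).all fun k => wImg w (xPos.getD k 0) == wImg u (xPos.getD k 0)

/-- Equal on the rigid points, equal in the group. -/
theorem eq_of_same {w u : List ℕ} (hw : ∀ g ∈ w, g < 14) (hu : ∀ g ∈ u, g < 14)
    (h : same w u = true) : evW sg w = evW sg u := by
  simp only [same, List.all_eq_true, beq_iff_eq, List.mem_range] at h
  have hc := rigid_ok
  simp only [rigidOK, Bool.and_eq_true, List.all_eq_true, Nat.blt_eq, beq_iff_eq, List.mem_range] at hc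
  refine (inv_mul_eq_one.1 (eq_one_of_fix fun k hk => ?_)).symm
  have hp : xPos.getD k 0 < 951 := by
    rw [List.getD_eq_getElem _ _ (hc.1.1.1.1.symm ▸ hk)]
    exact hc.1.1.2 _ (List.getElem_mem _)
  rw [map_mul, Equiv.Perm.mul_apply, (phi_word hw hp).1, h k hk, ← (phi_word hu hp).1,
    ← Equiv.Perm.mul_apply, ← map_mul, inv_mul_cancel, map_one, Equiv.Perm.one_apply]

/-- A word moving a rigid point is nontrivial. -/
theorem ne_one_of_move {w : List ℕ} (hw : ∀ g ∈ w, g < 14) {k : ℕ} (hk : k < 6)
    (h : (om (wImg w (xPos.getD k 0)) == om (xPos.getD k 0)) = false) : evW sg w ≠ 1 := by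
  intro he
  have hc := rigid_ok
  simp only [rigidOK, Bool.and_eq_true, List.all_eq_true, Nat.blt_eq, beq_iff_eq, List.mem_range] at hc
  have hp : xPos.getD k 0 < 951 := by
    rw [List.getD_eq_getElem _ _ (hc.1.1.1.1.symm ▸ hk)]
    exact hc.1.1.2 _ (List.getElem_mem _)
  obtain ⟨h1, h2⟩ := phi_word hw hp
  rw [he, map_one, Equiv.Perm.one_apply] at h1
  have h3 := congrArg Fin.val h1
  rw [omPt_val hp, omPt_val h2] at h3
  rw [← h3] at h
  simp at h

end CfsgLib.Presented.Fi23SylowTwo

end
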