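import Cfsg.Agent.Lib.Presented.Fi23Simple

/-!
The transpositions of the presented Fischer group on 23 letters, indexed by the points of the
coset table, and the rigidity they give: an element fixing enough points is trivial.
-/

set_option autoImplicit false
set_option maxRecDepth 20000

namespace CfsgLib.Presented.Fi23SylowTwo

open Fi23Cosets (ev ev_one ev_inv phi phi_ev rep_valid gen_top)

/-- The number of points. -/
abbrev Pt := Fin Fi23Cert.rep.N

/-- The base point. -/
def zeroPt : Pt := ⟨0, VCert.pos Fi23Cert.cert_ok⟩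

/-- The point of the generator a. -/
noncomputable def aPt : Pt := phi (evW ev Fi23Simple.conjWord) zeroPt

theorem phi_evW {w : List ℕ} (hw : ∀ x ∈ w, x < 10) :
    phi (evW ev w) = evW (Fi23Cert.rep.perm rep_valid) w := by
  simp only [evW, map_list_prod, List.map_map]
  exact congrArg List.prod (List.map_congr_left fun x hx => phi_ev x (hw x hx))

theorem phi_evW_val {w : List ℕ} (hw : ∀ x ∈ w, x < 10) (p : Pt) :
    (phi (evW ev w) p : ℕ) = Vec.netPerm (Fi23Cert.rep.netW w) p := by
  rw [phi_evW hw, Rep.netW_perm rep_valid]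

theorem zw_commute {h : Cfsg.Spor.Fi23} (hh : h ∈ Fi23Cosets.H) :
    h * evW ev Fi23Simple.zw = evW ev Fi23Simple.zw * h := by
  have hz : (⟨_, Fi23Simple.zw_mem⟩ : Fi23Cosets.H) ∈ Subgroup.center Fi23Cosets.H :=
    Fi23Simple.ker_le_center (Fi23Simple.toFi22_eq_one.2 Fi23Simple.psi_zw)
  exact congrArg Subtype.val (Subgroup.mem_center_iff.1 hz ⟨h, hh⟩)

theorem commute_a {g : Cfsg.Spor.Fi23} (hg : phi g aPt = aPt) : g * ev 0 = ev 0 * g := by
  have hc : phi ((evW ev Fi23Simple.conjWord)⁻¹ * g * evW ev Fi23Simple.conjWord) zeroPt = zeroPt := by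
    rw [map_mul, map_mul, Equiv.Perm.mul_apply, Equiv.Perm.mul_apply,
      show phi (evW ev Fi23Simple.conjWord) zeroPt = aPt from rfl, hg, map_inv]
    exact (Equiv.symm_apply_eq _).2 rfl
  have h1 := zw_commute (Fi23Simple.mem_H_of_fix hc)
  rw [Fi23Simple.conj_eq]
  generalize evW ev Fi23Simple.conjWord = c at h1 ⊢
  generalize evW ev Fi23Simple.zw = z at h1 ⊢
  calc g * (c * z * c⁻¹) = c * ((c⁻¹ * g * c) * z) * c⁻¹ := by group
    _ = c * (z * (c⁻¹ * g * c)) * c⁻¹ := by rw [h1]
    _ = c * z * c⁻¹ * g := by group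

theorem transitive_a (p : Pt) : ∃ g, phi g aPt = p := by
  obtain ⟨g, hg⟩ := Fi23Simple.transitive p
  refine ⟨g * (evW ev Fi23Simple.conjWord)⁻¹, ?_⟩
  show phi (g * (evW ev Fi23Simple.conjWord)⁻¹) (phi (evW ev Fi23Simple.conjWord) zeroPt) = p
  rw [← Equiv.Perm.mul_apply, ← map_mul, inv_mul_cancel_right]
  exact hg

/-- The transposition of a point. -/
noncomputable def tau (p : Pt) : Cfsg.Spor.Fi23 :=
  (transitive_a p).choose * ev 0 * (transitive_a p).choose⁻¹

theorem tau_phi (u : Cfsg.Spor.Fi23) : tau (phi u aPt) = u * ev 0 * u⁻¹ := by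
  have hs := (transitive_a (phi u aPt)).choose_spec
  rw [tau]
  generalize (transitive_a (phi u aPt)).choose = v at hs ⊢
  have h : phi (u⁻¹ * v) aPt = aPt := by
    rw [map_mul, Equiv.Perm.mul_apply, hs, ← Equiv.Perm.mul_apply, ← map_mul, inv_mul_cancel, map_one,
      Equiv.Perm.one_apply]
  calc v * ev 0 * v⁻¹ = u * ((u⁻¹ * v) * ev 0) * v⁻¹ := by group
    _ = u * (ev 0 * (u⁻¹ * v)) * v⁻¹ := by rw [commute_a h]
    _ = u * ev 0 * u⁻¹ := by group

theorem tau_conj (g : Cfsg.Spor.Fi23) (p : Pt) : tau (phi g p) = g * tau p * g⁻¹ := by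
  obtain ⟨u, rfl⟩ := transitive_a p
  rw [← Equiv.Perm.mul_apply, ← map_mul, tau_phi, tau_phi]
  group

theorem tau_aPt : tau aPt = ev 0 := by
  have h := tau_phi 1
  rw [map_one, Equiv.Perm.one_apply] at h
  rw [h]
  group

theorem commute_of_fix {g : Cfsg.Spor.Fi23} {p : Pt} (hg : phi g p = p) : g * tau p = tau p * g := by
  have h := tau_conj g p
  rw [hg] at h
  calc g * tau p = g * tau p * g⁻¹ * g := by group
    _ = tau p * g := by rw [← h]

theorem center_eq_bot : Subgroup.center Cfsg.Spor.Fi23 = ⊥ := by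
  have := Fi23Simple.simple
  refine (IsSimpleGroup.eq_bot_or_eq_top_of_normal (Subgroup.center Cfsg.Spor.Fi23) inferInstance).resolve_right fun h => ?_
  let _ : CommGroup Cfsg.Spor.Fi23 := { (inferInstance : Group Cfsg.Spor.Fi23) with
    mul_comm := fun a b => (Subgroup.mem_center_iff.1 (h ▸ Subgroup.mem_top a) b).symm }
  have hp := IsSimpleGroup.prime_card (α := Cfsg.Spor.Fi23)
  rw [Fi23Order.card_eq] at hp
  exact absurd hp (by norm_num)

/-- Two letters joined in the diagram are conjugate by their product. -/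
theorem braid_conj {x y : ℕ} (hx : x < 10) (hy : y < 10)
    (h : Fi23Cert.relWords.contains [x, y, x, y, x, y] = true) :
    ev x * ev y * ev x * (ev x * ev y)⁻¹ = ev y := by
  have h1 := Fi23Simple.braid h
  have hx2 : ev x * ev x = 1 := Fi23Simple.sq_one hx
  have hy2 : ev y * ev y = 1 := Fi23Simple.sq_one hy
  have h1' : ev x * ev y * ev x = (ev y * ev x * ev y)⁻¹ :=
    eq_inv_of_mul_eq_one_left (by rw [← h1]; group)
  have hxi : (ev x)⁻¹ = ev x := inv_eq_of_mul_eq_one_left hx2
  have hyi : (ev y)⁻¹ = ev y := inv_eq_of_mul_eq_one_left hy2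
  rw [mul_inv_rev, mul_inv_rev, hxi, hyi, ← mul_assoc] at h1'
  rw [mul_inv_rev, hxi, hyi, h1']
  calc ev y * ev x * ev y * (ev y * ev x) = ev y * ev x * (ev y * ev y) * ev x := by group
    _ = ev y * (ev x * ev x) := by rw [hy2, mul_one, mul_assoc]
    _ = ev y := by rw [hx2, mul_one]

/-- The points of the generators. -/
noncomputable def genPt : ℕ → Pt
  | 1 => phi (ev 0 * ev 1) aPt
  | 2 => phi (ev 1 * ev 2) (phi (ev 0 * ev 1) aPt)
  | 3 => phi (ev 2 * ev 3) (phi (ev 1 * ev 2) (phi (ev 0 * ev 1) aPt))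
  | 4 => phi (evW ev [3, 4, 2, 3, 1, 2, 0, 1]) aPt
  | 5 => phi (evW ev [4, 5, 3, 4, 2, 3, 1, 2, 0, 1]) aPt
  | 6 => phi (evW ev [5, 6, 4, 5, 3, 4, 2, 3, 1, 2, 0, 1]) aPt
  | 7 => phi (evW ev [6, 7, 5, 6, 4, 5, 3, 4, 2, 3, 1, 2, 0, 1]) aPt
  | 8 => phi (evW ev [3, 8, 2, 3, 1, 2, 0, 1]) aPt
  | 9 => phi (evW ev [8, 9, 3, 8, 2, 3, 1, 2, 0, 1]) aPt
  | _ => aPt

theorem tau_step {x y : ℕ} (hx : x < 10) (hy : y < 10)
    (h : Fi23Cert.relWords.contains [x, y, x, y, x, y] = true) {p : Pt} (hp : tau p = ev x) :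
    tau (phi (ev x * ev y) p) = ev y := by
  rw [tau_conj, hp]
  exact braid_conj hx hy h

theorem tau_genPt : ∀ i < 10, tau (genPt i) = ev i := by
  have b := @tau_step
  have h0 := tau_aPt
  have h1 := b (y := 1) (by norm_num) (by norm_num) (by decide +kernel) h0
  have h2 := b (y := 2) (by norm_num) (by norm_num) (by decide +kernel) h1
  have h3 := b (y := 3) (by norm_num) (by norm_num) (by decide +kernel) h2
  have h4 := b (y := 4) (by norm_num) (by norm_num) (by decide +kernel) h3
  have h5 := b (y := 5) (by norm_num) (by norm_num) (by decide +kernel) h4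
  have h6 := b (y := 6) (by norm_num) (by norm_num) (by decide +kernel) h5
  have h7 := b (y := 7) (by norm_num) (by norm_num) (by decide +kernel) h6
  have h8 := b (y := 8) (by norm_num) (by norm_num) (by decide +kernel) h3
  have h9 := b (y := 9) (by norm_num) (by norm_num) (by decide +kernel) h8
  simp only [← Equiv.Perm.mul_apply, ← map_mul] at h2 h3 h4 h5 h6 h7 h8 h9
  intro i hi
  interval_cases i <;> simp only [genPt, evW, List.map_cons, List.map_nil, List.prod_cons, List.prod_nil,
    mul_one, ← Equiv.Perm.mul_apply, ← map_mul, mul_assoc] at * <;> assumption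

/-- An element commuting with the transpositions of the generator points is trivial. -/
theorem eq_one_of_commute {g : Cfsg.Spor.Fi23} (h : ∀ i < 10, g * tau (genPt i) = tau (genPt i) * g) :
    g = 1 := by
  have hc : g ∈ Subgroup.center Cfsg.Spor.Fi23 := by
    rw [Subgroup.mem_center_iff]
    intro k
    have hk : k ∈ Subgroup.centralizer {g} := by
      have hle : Subgroup.closure (ev '' Set.Iio 10) ≤ Subgroup.centralizer {g} := by
        rw [Subgroup.closure_le]
        rintro _ ⟨i, hi, rfl⟩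
        rw [SetLike.mem_coe, Subgroup.mem_centralizer_singleton_iff]
        have := h i hi
        rw [tau_genPt i hi] at this
        exact this.symm
      exact hle (gen_top.symm ▸ Subgroup.mem_top k)
    exact Subgroup.mem_centralizer_singleton_iff.1 hk
  rwa [center_eq_bot, Subgroup.mem_bot] at hc

end CfsgLib.Presented.Fi23SylowTwo
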