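import Cfsg.Agent.Lib.Presented.Fi23SylowTwo.Checks
import Cfsg.Prelude.Def_Transfer
import Mathlib.GroupTheory.Sylow

/-!
A Sylow 2-subgroup of the presented Fischer group on 23 letters has a unique elementary abelian
subgroup of order `2^11`, and none larger.
-/

set_option autoImplicit false
set_option maxRecDepth 20000

noncomputable section

namespace CfsgLib.Presented.Fi23SylowTwo

/-- The element of a vector. -/
def eE (m : ℕ) : Cfsg.Spor.Fi23 := evW sg (vecWord 11 m)

/-- The element of a class. -/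
def qE (v : ℕ) : Cfsg.Spor.Fi23 := evW sg (clsWord v)

theorem vecWord_lt : ∀ (k m : ℕ), ∀ g ∈ vecWord k m, g < k
  | 0, _, g, hg => by simp [vecWord] at hg
  | k + 1, m, g, hg => by
    rw [vecWord, List.mem_append] at hg
    rcases hg with hg | hg
    · exact (vecWord_lt k m g hg).trans (Nat.lt_succ_self k)
    · cases hb : m.testBit k <;> rw [hb] at hg <;> simp at hg
      omega

theorem clsWord_lt {v : ℕ} (hv : v < 128) : ∀ g ∈ clsWord v, g < 14 := by
  intro g hg
  obtain ⟨i, hi, rfl⟩ := List.mem_map.1 hg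
  have h := quot_shape.1
  simp only [List.all_eq_true, List.mem_range, Nat.blt_eq] at h
  have := h v hv i hi
  omega

theorem sg_sq {g : ℕ} (hg : g < 14) : sg g * sg g = 1 := by
  have h := square_ok
  simp only [List.all_eq_true, List.mem_range] at h
  have h1 := eq_of_same (w := [g, g]) (u := []) (by simp [hg]) (by simp) (h g hg)
  simpa using h1

theorem sg_comm {j k : ℕ} (hj : j < 11) (hk : k < 11) : sg j * sg k = sg k * sg j := by
  have h := comm_ok
  simp only [List.all_eq_true, List.mem_range] at h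
  have h1 := eq_of_same (w := [j, k]) (u := [k, j]) (by simp; omega) (by simp; omega) (h j hj k hk)
  simpa using h1

/-- The part of a vector's element below `k`. -/
def eK (k m : ℕ) : Cfsg.Spor.Fi23 := evW sg (vecWord k m)

theorem eK_succ (k m : ℕ) : eK (k + 1) m = eK k m * if m.testBit k then sg k else 1 := by
  rw [eK, vecWord, evW_append, eK]
  cases m.testBit k <;> simp

theorem sg_eK : ∀ k ≤ 11, ∀ j < 11, ∀ m, sg j * eK k m = eK k m * sg j := by
  intro k
  induction k with
  | zero => intro _ j _ m; simp [eK, vecWord]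
  | succ k ih =>
    intro hk j hj m
    rw [eK_succ, ← mul_assoc, ih (by omega) j hj m, mul_assoc, mul_assoc]
    congr 1
    split
    · exact sg_comm hj (by omega)
    · simp

theorem eK_mul : ∀ k ≤ 11, ∀ m n, eK k m * eK k n = eK k (m ^^^ n) := by
  intro k
  induction k with
  | zero => intro _ m n; simp [eK, vecWord]
  | succ k ih =>
    intro hk m n
    rw [eK_succ, eK_succ, eK_succ, ← ih (by omega) m n, Nat.testBit_xor]
    cases m.testBit k <;> cases n.testBit k
    · simp
    · simp [mul_assoc]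
    · simp only [Bool.false_eq_true, ↓reduceIte, Bool.bne_false, mul_one]
      rw [mul_assoc, sg_eK k (by omega) k (by omega), ← mul_assoc]
    · simp only [↓reduceIte, bne_self_eq_false, Bool.false_eq_true, mul_one]
      rw [mul_assoc, ← mul_assoc (sg k), sg_eK k (by omega) k (by omega), mul_assoc, sg_sq (by omega),
        mul_one]

theorem eE_mul (m n : ℕ) : eE m * eE n = eE (m ^^^ n) := eK_mul 11 le_rfl m n

theorem eE_zero : eE 0 = 1 := by
  have h : ∀ k, vecWord k 0 = [] := by
    intro k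
    induction k with
    | zero => rfl
    | succ k ih => simp [vecWord, ih]
  simp [eE, h]

theorem eE_self (m : ℕ) : eE m * eE m = 1 := by rw [eE_mul, Nat.xor_self, eE_zero]

theorem eE_ne_one {m : ℕ} (h0 : m ≠ 0) (hm : m < 2048) : eE m ≠ 1 := by
  have h := move_ok
  simp only [List.all_eq_true, List.mem_range] at h
  have h1 := h (m - 1) (by omega)
  rw [show m - 1 + 1 = m by omega, moves, List.any_eq_true] at h1
  obtain ⟨k, hk, hk'⟩ := h1
  exact ne_one_of_move (fun g hg => (vecWord_lt 11 m g hg).trans (by norm_num)) (List.mem_range.1 hk)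
    (by simpa using hk')

theorem eE_inj {m n : ℕ} (hm : m < 2048) (hn : n < 2048) (h : eE m = eE n) : m = n := by
  by_contra hne
  refine eE_ne_one (m := m ^^^ n) (fun h0 => hne ?_)
    (Nat.xor_lt_two_pow (n := 11) hm hn) (by rw [← eE_mul, h, eE_self])
  exact Nat.xor_eq_zero_iff.1 h0

theorem eE_two_pow {j : ℕ} (hj : j < 11) : eE (2 ^ j) = sg j := by
  have h : ∀ k, eK k (2 ^ j) = if j < k then sg j else 1 := by
    intro k
    induction k with
    | zero => simp [eK, vecWord]
    | succ k ih =>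
      rw [eK_succ, ih, Nat.testBit_two_pow]
      by_cases h : j = k
      · subst h; simp
      · by_cases h2 : j < k
        · simp [h, h2, show j < k + 1 by omega]
        · simp [h, h2, show ¬ j < k + 1 by omega]
  exact (h 11).trans (if_pos hj)

theorem act_lt (v : ℕ) : ∀ k m, act v k m < 2 ^ 11
  | 0, _ => by simp [act]
  | k + 1, m => by
    refine Nat.xor_lt_two_pow (act_lt v k m) ?_
    cases m.testBit k
    · simp
    · exact Nat.mod_lt _ (by norm_num)

theorem qE_zero : qE 0 = 1 := by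
  rw [qE, clsWord, quot_shape.2]
  rfl

theorem qE_sg {v i : ℕ} (hv : v < 128) (hi : i < 3) :
    qE v * sg (11 + i) = eE (stepE v i) * qE (stepC v i) := by
  have h := step_ok
  simp only [List.all_eq_true, List.mem_range] at h
  have h1 := eq_of_same (w := clsWord v ++ [11 + i]) (u := vecWord 11 (stepE v i) ++ clsWord (stepC v i))
    (by
      intro g hg
      rcases List.mem_append.1 hg with hg | hg
      · exact clsWord_lt hv g hg
      · simp at hg; omega)
    (by
      intro g hg
      rcases List.mem_append.1 hg with hg | hg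
      · exact (vecWord_lt 11 _ g hg).trans (by norm_num)
      · exact clsWord_lt (Nat.mod_lt _ (by norm_num)) g hg)
    (h v hv i hi)
  simpa [evW_append, qE, eE] using h1

theorem qE_sg_vec {v j : ℕ} (hv : v < 128) (hj : j < 11) : qE v * sg j = eE (col v j) * qE v := by
  have h := col_ok
  simp only [List.all_eq_true, List.mem_range] at h
  have h1 := eq_of_same (w := clsWord v ++ [j]) (u := vecWord 11 (col v j) ++ clsWord v)
    (by
      intro g hg
      rcases List.mem_append.1 hg with hg | hg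
      · exact clsWord_lt hv g hg
      · simp at hg; omega)
    (by
      intro g hg
      rcases List.mem_append.1 hg with hg | hg
      · exact (vecWord_lt 11 _ g hg).trans (by norm_num)
      · exact clsWord_lt hv g hg)
    (h v hv j hj)
  simpa [evW_append, qE, eE] using h1

theorem qE_eK {v : ℕ} (hv : v < 128) : ∀ k ≤ 11, ∀ m, qE v * eK k m = eE (act v k m) * qE v := by
  intro k
  induction k with
  | zero => intro _ m; simp [eK, vecWord, act, eE_zero]
  | succ k ih =>
    intro hk m
    rw [eK_succ, ← mul_assoc, ih (by omega) m, act, ← eE_mul, mul_assoc, mul_assoc]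
    congr 1
    cases m.testBit k
    · simp [eE_zero]
    · simpa using qE_sg_vec hv (show k < 11 by omega)

theorem qE_eE {v : ℕ} (hv : v < 128) (m : ℕ) : qE v * eE m = eE (act v 11 m) * qE v :=
  qE_eK hv 11 le_rfl m

theorem nf_inj {m n v u : ℕ} (hm : m < 2048) (hn : n < 2048) (hv : v < 128) (hu : u < 128)
    (h : eE m * qE v = eE n * qE u) : m = n ∧ v = u := by
  have hqu : qE u = eE (n ^^^ m) * qE v := by
    rw [← eE_mul, mul_assoc, h, ← mul_assoc, eE_self, one_mul]
  have hcol : ∀ j < 11, col v j = col u j := by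
    intro j hj
    have h1 : eE (col u j) * qE u = qE u * sg j := (qE_sg_vec hu hj).symm
    rw [hqu, mul_assoc, qE_sg_vec hv hj, ← mul_assoc, ← mul_assoc, eE_mul, eE_mul] at h1
    have h2 := mul_right_cancel h1
    have hlt : ∀ w, col w j < 2048 := fun w => Nat.mod_lt _ (by norm_num)
    have hnm : n ^^^ m < 2 ^ 11 := Nat.xor_lt_two_pow hn hm
    have h3 := eE_inj (Nat.xor_lt_two_pow (n := 11) (hlt u) hnm) (Nat.xor_lt_two_pow (n := 11) hnm (hlt v)) h2
    rw [Nat.xor_comm (n ^^^ m) (col v j)] at h3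
    exact (Nat.xor_left_inj.1 h3).symm
  have hkey : actKeys.getD v 0 = actKeys.getD u 0 ∨ v = u := by
    left
    obtain ⟨hk, hlen, -⟩ := key_ok
    simp only [List.all_eq_true, List.mem_range, beq_iff_eq] at hk
    have hb : ∀ w < 128, actKeys.getD w 0 < 2 ^ 121 := by decide +kernel
    refine Nat.eq_of_testBit_eq fun i => ?_
    rcases Nat.lt_or_ge i 121 with hi | hi
    · have e1 := hk v hv (i / 11) (by omega)
      have e2 := hk u hu (i / 11) (by omega)
      rw [hcol (i / 11) (by omega), ← e2] at e1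
      have e3 := congrArg (fun x => x.testBit (i % 11)) e1
      simp only [show (2048 : ℕ) = 2 ^ 11 from rfl, Nat.testBit_mod_two_pow, Nat.testBit_shiftRight,
        Nat.mod_lt i (show 0 < 11 by norm_num), decide_true, Bool.true_and, Nat.div_add_mod] at e3
      exact e3
    · have h3 := Nat.pow_le_pow_right (show 0 < 2 by norm_num) hi
      rw [Nat.testBit_lt_two_pow ((hb v hv).trans_le h3), Nat.testBit_lt_two_pow ((hb u hu).trans_le h3)]
  have hvu : v = u := by
    rcases hkey with hkey | hkey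
    · obtain ⟨-, hlen, hnd⟩ := key_ok
      rw [List.getD_eq_getElem _ _ (hlen.symm ▸ hv), List.getD_eq_getElem _ _ (hlen.symm ▸ hu)] at hkey
      exact hnd.getElem_inj_iff.1 hkey
    · exact hkey
  subst hvu
  exact ⟨eE_inj hm hn (mul_right_cancel h), rfl⟩

theorem stepC_lt (v i : ℕ) : stepC v i < 128 := Nat.mod_lt _ (by norm_num)

theorem stepE_lt (v i : ℕ) : stepE v i < 2048 := Nat.mod_lt _ (by norm_num)

theorem foldl_lt : ∀ (w : List ℕ) {v : ℕ}, v < 128 → w.foldl stepC v < 128
  | [], _, hv => hv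
  | i :: w, _, _ => foldl_lt w (stepC_lt _ i)

theorem qE_fold : ∀ (w : List ℕ) {v : ℕ}, v < 128 → (∀ i ∈ w, i < 3) →
    ∃ m < 2048, qE v * evW sg (w.map (· + 11)) = eE m * qE (w.foldl stepC v)
  | [], v, _, _ => ⟨0, by norm_num, by simp [eE_zero]⟩
  | i :: w, v, hv, hw => by
    obtain ⟨m, hm, e⟩ := qE_fold w (stepC_lt v i) fun x hx => hw x (List.mem_cons_of_mem i hx)
    refine ⟨stepE v i ^^^ m, Nat.xor_lt_two_pow (n := 11) (stepE_lt v i) hm, ?_⟩
    rw [List.map_cons, evW_cons, ← mul_assoc, show i + 11 = 11 + i from Nat.add_comm _ _,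
      qE_sg hv (hw i List.mem_cons_self), mul_assoc, e, ← mul_assoc, eE_mul]
    rfl

theorem nf_mul {m v n u : ℕ} (hm : m < 2048) (hv : v < 128) (hu : u < 128) :
    ∃ r < 2048, eE m * qE v * (eE n * qE u) = eE r * qE (mulC v u) ∧
      (u = 0 → r = m ^^^ act v 11 n) := by
  have h := quot_shape.1
  simp only [List.all_eq_true, List.mem_range, Nat.blt_eq] at h
  obtain ⟨c, hc, e⟩ := qE_fold (quotWords.getD u []) hv (h u hu)
  have hmul : mulC v u = (quotWords.getD u []).foldl stepC v := by
    have h' := mul_ok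
    simp only [List.all_eq_true, List.mem_range, beq_iff_eq] at h'
    exact h' v hv u hu
  refine ⟨m ^^^ act v 11 n ^^^ c, Nat.xor_lt_two_pow (n := 11)
    (Nat.xor_lt_two_pow (n := 11) hm (act_lt v 11 n)) hc, ?_, fun h0 => ?_⟩
  · rw [mul_assoc, ← mul_assoc (qE v), qE_eE hv, hmul, ← eE_mul, ← eE_mul]
    show eE m * (eE (act v 11 n) * qE v * evW sg ((quotWords.getD u []).map (· + 11))) = _
    rw [mul_assoc (eE (act v 11 n)), e]
    simp only [mul_assoc]
  · subst h0
    rw [quot_shape.2] at e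
    simp only [List.map_nil, evW_nil, mul_one, List.foldl_nil] at e
    have h0 : eE c = 1 := mul_right_cancel (e.symm.trans (one_mul _).symm)
    rcases Nat.eq_zero_or_pos c with rfl | hpos
    · rw [Nat.xor_zero]
    · exact absurd h0 (eE_ne_one hpos.ne' hc)

/-- The normal forms. -/
def nf (p : Fin 2048 × Fin 128) : Cfsg.Spor.Fi23 := eE p.1 * qE p.2

theorem nf_injective : Function.Injective nf := fun p q h =>
  Prod.ext (Fin.ext (nf_inj p.1.2 q.1.2 p.2.2 q.2.2 h).1) (Fin.ext (nf_inj p.1.2 q.1.2 p.2.2 q.2.2 h).2)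

theorem mulC_lt (v u : ℕ) : mulC v u < 128 := Nat.mod_lt _ (by norm_num)

theorem nf_mul_nf (p q : Fin 2048 × Fin 128) : ∃ r, nf r = nf p * nf q ∧ (r.2 : ℕ) = mulC p.2 q.2 ∧
    ((q.2 : ℕ) = 0 → (r.1 : ℕ) = p.1 ^^^ act p.2 11 q.1) := by
  obtain ⟨r, hr, e, e0⟩ := nf_mul p.1.2 p.2.2 q.2.2 (n := q.1)
  exact ⟨(⟨r, hr⟩, ⟨_, mulC_lt _ _⟩), e.symm, rfl, e0⟩

/-- The subgroup. -/
def T0 : Subgroup Cfsg.Spor.Fi23 :=
  have : Finite Cfsg.Spor.Fi23 := Nat.finite_of_card_ne_zero (by rw [Fi23Order.card_eq]; norm_num)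
  { carrier := Set.range nf
    one_mem' := ⟨(0, 0), by rw [nf]; simp [eE_zero, qE_zero]⟩
    mul_mem' := by
      rintro _ _ ⟨p, rfl⟩ ⟨q, rfl⟩
      obtain ⟨r, e, -⟩ := nf_mul_nf p q
      exact ⟨r, e⟩
    inv_mem' := by
      rintro x hx
      have hmem : ∀ n : ℕ, x ^ n ∈ Set.range nf := by
        intro n
        induction n with
        | zero => exact ⟨(0, 0), by rw [nf]; simp [eE_zero, qE_zero]⟩
        | succ n ih =>
          obtain ⟨p, hp⟩ := ih
          obtain ⟨q, hq⟩ := hx
          obtain ⟨r, e, -⟩ := nf_mul_nf p q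
          exact ⟨r, by rw [pow_succ, ← hp, ← hq, e]⟩
      rw [inv_eq_of_mul_eq_one_right (show x * x ^ (orderOf x - 1) = 1 by
        rw [← pow_succ', Nat.sub_add_cancel (orderOf_pos x), pow_orderOf_eq_one])]
      exact hmem _ }

theorem card_T0 : Nat.card T0 = 2 ^ 18 := by
  show Nat.card (Set.range nf) = 2 ^ 18
  rw [Nat.card_range_of_injective nf_injective]
  simp [Nat.card_eq_fintype_card]

/-- The normal subgroup of order `2^11`. -/
def E0 : Subgroup Cfsg.Spor.Fi23 where
  carrier := eE '' Set.Iio 2048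
  one_mem' := ⟨0, by norm_num, eE_zero⟩
  mul_mem' := by
    rintro _ _ ⟨m, hm, rfl⟩ ⟨n, hn, rfl⟩
    exact ⟨m ^^^ n, Nat.xor_lt_two_pow (n := 11) hm hn, (eE_mul m n).symm⟩
  inv_mem' := by
    rintro _ ⟨m, hm, rfl⟩
    exact ⟨m, hm, (inv_eq_of_mul_eq_one_right (eE_self m)).symm⟩

theorem card_E0 : Nat.card E0 = 2 ^ 11 := by
  show Nat.card (eE '' Set.Iio 2048) = 2 ^ 11
  have hinj : Set.InjOn eE (Set.Iio 2048) := fun m hm n hn h => eE_inj hm hn h
  rw [Nat.card_coe_set_eq, hinj.ncard_image, ← Finset.coe_Iio,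
    Set.ncard_coe_finset, Nat.card_Iio]
  norm_num

theorem E0_elementary : Cfsg.IsElementaryAbelian 2 E0 := by
  refine ⟨⟨⟨fun a b => Subtype.ext ?_⟩⟩, ?_⟩
  · obtain ⟨_, m, hm, rfl⟩ := a
    obtain ⟨_, n, hn, rfl⟩ := b
    show eE m * eE n = eE n * eE m
    rw [eE_mul, eE_mul, Nat.xor_comm]
  · rintro _ ⟨m, hm, rfl⟩
    rw [pow_two, eE_self]

theorem E0_le : E0 ≤ T0 := by
  rintro _ ⟨m, hm, rfl⟩
  exact ⟨(⟨m, hm⟩, 0), by simp [nf, qE_zero]⟩

theorem E0_conj {g x : Cfsg.Spor.Fi23} (hg : g ∈ T0) (hx : x ∈ E0) : g * x * g⁻¹ ∈ E0 := by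
  obtain ⟨p, rfl⟩ := hg
  obtain ⟨n, hn, rfl⟩ := hx
  refine ⟨act p.2 11 n, act_lt _ _ _, ?_⟩
  rw [nf, eq_mul_inv_iff_mul_eq, mul_assoc (eE p.1), qE_eE p.2.2, ← mul_assoc, ← mul_assoc, eE_mul,
    eE_mul, Nat.xor_comm]

theorem mulC_zero {v : ℕ} (hv : v < 128) : mulC v 0 = v := by
  have h := mul_ok
  simp only [List.all_eq_true, List.mem_range, beq_iff_eq] at h
  rw [h v hv 0 (by norm_num), quot_shape.2]
  rfl

/-- The search finds every admissible set. -/
theorem leaf_of_search {B : ℕ → Prop} (hmul : ∀ v u, B v → B u → B (mulC v u))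
    (hcomm : ∀ v u, B v → B u → commC v u = true) (hlt : ∀ v, B v → v < 128) :
    ∀ (f : ℕ) (st c : List ℕ), search f st c = true → 0 ∈ st → (∀ v ∈ st, B v) →
      (∀ v, B v → v ∈ st ∨ v ∈ c) → ∃ s, leafOK s = true ∧ (∀ v ∈ s, B v) ∧ ∀ v, B v → v ∈ s := by
  intro f
  induction f with
  | zero => intro st c h; simp [search] at h
  | succ f ih =>
    intro st c h h0 hst hB
    cases c with
    | nil => exact ⟨st, by simpa [search] using h, hst, fun v hv => (hB v hv).resolve_right List.not_mem_nil⟩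
    | cons v r =>
      rw [search] at h
      by_cases hc : st.contains v = true
      · rw [if_pos hc] at h
        refine ih st r h h0 hst fun u hu => ?_
        rcases hB u hu with hu' | hu'
        · exact Or.inl hu'
        · rcases List.mem_cons.1 hu' with rfl | hu'
          · exact Or.inl (List.contains_iff_mem.1 hc)
          · exact Or.inr hu'
      · rw [if_neg hc, Bool.and_eq_true, Bool.or_eq_true, Bool.not_eq_true'] at h
        by_cases hv : B v
        · rcases h.2 with h2 | h2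
          · have hall : st.all (commC v) = true :=
              List.all_eq_true.2 fun u hu => hcomm v u hv (hst u hu)
            rw [hall] at h2
            simp at h2
          · refine ih _ _ h2 (List.mem_append_left _ h0) ?_ fun u hu => ?_
            · intro u hu
              rcases List.mem_append.1 hu with hu | hu
              · exact hst u hu
              · obtain ⟨w, hw, rfl⟩ := List.mem_map.1 hu
                exact hmul v w hv (hst w hw)
            · rcases hB u hu with hu' | hu'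
              · exact Or.inl (List.mem_append_left _ hu')
              · rcases List.mem_cons.1 hu' with rfl | hu'
                · exact Or.inl (List.mem_append_right _ (List.mem_map.2 ⟨0, h0, mulC_zero (hlt u hu)⟩))
                · exact Or.inr (List.mem_filter.2 ⟨hu', hcomm v u hv hu⟩)
        · refine ih st r h.1 h0 hst fun u hu => ?_
          rcases hB u hu with hu' | hu'
          · exact Or.inl hu'
          · rcases List.mem_cons.1 hu' with rfl | hu'
            · exact absurd hu hv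
            · exact Or.inr hu'

theorem mask_lt (v : ℕ) : fixMasks.getD v 0 < 2 ^ 2048 := by
  have h : fixMasks.all (fun x => Nat.blt x (2 ^ 2048)) = true := by decide +kernel
  rcases Nat.lt_or_ge v fixMasks.length with hv | hv
  · rw [List.getD_eq_getElem _ _ hv]
    have := List.all_eq_true.1 h _ (List.getElem_mem hv)
    rwa [Nat.blt_eq] at this
  · rw [List.getD_eq_default _ _ hv]
    exact Nat.two_pow_pos _

/-- The class of an element. -/
def clsOf (x : T0) : Fin 128 := (Classical.choose x.2 : Fin 2048 × Fin 128).2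

/-- The vector of an element. -/
def vecOf (x : T0) : Fin 2048 := (Classical.choose x.2 : Fin 2048 × Fin 128).1

theorem nf_spec (x : T0) : nf (vecOf x, clsOf x) = x := Classical.choose_spec x.2

theorem cls_mul (x y : T0) : (clsOf (x * y) : ℕ) = mulC (clsOf x) (clsOf y) ∧
    ((clsOf y : ℕ) = 0 → (vecOf (x * y) : ℕ) = vecOf x ^^^ act (clsOf x) 11 (vecOf y)) := by
  obtain ⟨r, e, e2, e1⟩ := nf_mul_nf (vecOf x, clsOf x) (vecOf y, clsOf y)
  have h : r = (vecOf (x * y), clsOf (x * y)) := nf_injective (by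
    rw [e, nf_spec, nf_spec, nf_spec]; rfl)
  rw [h] at e2 e1
  exact ⟨e2, e1⟩

theorem cls_one : (clsOf 1 : ℕ) = 0 := by
  have h : (vecOf 1, clsOf 1) = ((0, 0) : Fin 2048 × Fin 128) :=
    nf_injective (by rw [nf_spec]; simp [nf, eE_zero, qE_zero])
  rw [show clsOf 1 = 0 from congrArg Prod.snd h]
  rfl

theorem mem_E0_of_cls {x : T0} (h : (clsOf x : ℕ) = 0) : (x : Cfsg.Spor.Fi23) ∈ E0 := by
  refine ⟨vecOf x, (vecOf x).2, ?_⟩
  rw [← nf_spec x, nf, h, qE_zero, mul_one]

theorem fix_card {v : ℕ} (h0 : v ≠ 0) (hv : v < 128) :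
    ((Finset.range 2048).filter fun m => (fixMasks.getD v 0).testBit m = true).card ≤ 128 := by
  have h := fix_count
  simp only [List.all_eq_true, List.mem_range, Nat.ble_eq] at h
  have h1 := h (v - 1) (by omega)
  rwa [show v - 1 + 1 = v by omega, bitCount_eq] at h1

/-- An elementary abelian subgroup of order at least `2^11` is `E0`. -/
theorem eq_E0 {A : Subgroup Cfsg.Spor.Fi23} (hA : A ≤ T0) (hEA : Cfsg.IsElementaryAbelian 2 A)
    (hcard : 2 ^ 11 ≤ Nat.card A) : A = E0 := by
  classical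
  have : Finite Cfsg.Spor.Fi23 := Nat.finite_of_card_ne_zero (by rw [Fi23Order.card_eq]; norm_num)
  let S : Finset T0 := (Set.toFinite {x : T0 | (x : Cfsg.Spor.Fi23) ∈ A}).toFinset
  have hmem : ∀ x, x ∈ S ↔ (x : Cfsg.Spor.Fi23) ∈ A := fun x => by simp [S]
  have hS : S.card = Nat.card A := by
    rw [← Set.ncard_eq_toFinset_card, ← Nat.card_coe_set_eq]
    exact Nat.card_congr ⟨fun x => ⟨x.1.1, x.2⟩, fun a => ⟨⟨a.1, hA a.2⟩, a.2⟩, fun _ => rfl, fun _ => rfl⟩
  have hcomm : ∀ x ∈ S, ∀ y ∈ S, x * y = y * x := fun x hx y hy => Subtype.ext (by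
    have h := congrArg Subtype.val (hEA.1.is_comm.comm ⟨_, (hmem x).1 hx⟩ ⟨_, (hmem y).1 hy⟩)
    simpa using h)
  have hsq : ∀ x ∈ S, x * x = 1 := fun x hx => Subtype.ext (by
    rw [Subgroup.coe_mul, ← pow_two]; exact hEA.2 _ ((hmem x).1 hx))
  let B : ℕ → Prop := fun v => ∃ x ∈ S, (clsOf x : ℕ) = v
  have hlt : ∀ v, B v → v < 128 := fun v ⟨x, _, e⟩ => e ▸ (clsOf x).2
  have hB0 : B 0 := ⟨1, (hmem 1).2 (one_mem A), cls_one⟩
  have hmul : ∀ v u, B v → B u → B (mulC v u) := by
    rintro _ _ ⟨x, hx, rfl⟩ ⟨y, hy, rfl⟩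
    exact ⟨x * y, (hmem _).2 (mul_mem ((hmem x).1 hx) ((hmem y).1 hy)), (cls_mul x y).1⟩
  have hcC : ∀ v u, B v → B u → commC v u = true := by
    rintro _ _ ⟨x, hx, rfl⟩ ⟨y, hy, rfl⟩
    rw [commC, beq_iff_eq, ← (cls_mul x y).1, ← (cls_mul y x).1, hcomm x hx y hy]
  have hinvol : ∀ v, B v → v ∈ [0] ∨ v ∈ involCls := by
    intro v hv
    rcases Nat.eq_zero_or_pos v with h | h
    · exact Or.inl (by simp [h])
    · refine Or.inr (List.mem_filter.2 ⟨List.mem_map.2 ⟨v - 1, List.mem_range.2 (by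
        have := hlt v hv; omega), by omega⟩, ?_⟩)
      obtain ⟨x, hx, rfl⟩ := hv
      rw [beq_iff_eq, ← (cls_mul x x).1, hsq x hx, cls_one]
  obtain ⟨s, hleaf, hsB, hBs⟩ := leaf_of_search hmul hcC hlt 200 [0] involCls search_ok
    List.mem_cons_self (fun v hv => by rw [List.mem_singleton] at hv; exact hv ▸ hB0) hinvol
  -- if all classes are trivial there is nothing to do
  by_cases htriv : ∀ x ∈ S, (clsOf x : ℕ) = 0
  · exact Subgroup.eq_of_le_of_card_ge (fun a ha => mem_E0_of_cls (htriv ⟨a, hA ha⟩ ((hmem _).2 ha)))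
      (by rw [card_E0]; exact hcard)
  push Not at htriv
  obtain ⟨x₁, hx₁, hne⟩ := htriv
  exfalso
  -- the fixed vectors of a class
  let F : Finset ℕ := (Finset.range 2048).filter fun m =>
    ∀ v ∈ s, (fixMasks.getD v 0).testBit m = true
  have hfib : ∀ v ∈ s.toFinset, (S.filter fun x => (clsOf x : ℕ) = v).card ≤ F.card := by
    intro v hv
    obtain ⟨a, ha, hav⟩ := hsB v (List.mem_toFinset.1 hv)
    refine Finset.card_le_card_of_injOn (fun x => (vecOf (a * x) : ℕ)) ?_ ?_
    · intro x hx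
      simp only [Finset.coe_filter, Set.mem_ofPred_eq] at hx
      have hmemA : a * x ∈ S := (hmem _).2 (mul_mem ((hmem a).1 ha) ((hmem x).1 hx.1))
      have h0 : (clsOf (a * x) : ℕ) = 0 := by
        rw [(cls_mul a x).1, hx.2, ← hav, ← (cls_mul a a).1, hsq a ha, cls_one]
      refine Finset.mem_filter.2 ⟨Finset.mem_range.2 (vecOf (a * x)).2, fun u hu => ?_⟩
      obtain ⟨b, hb, hbu⟩ := hsB u hu
      have hfix : act (clsOf b) 11 (vecOf (a * x)) = vecOf (a * x) := by
        have e : eE (vecOf (a * x)) = ((a * x : T0) : Cfsg.Spor.Fi23) := by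
          rw [← nf_spec (a * x), nf, h0, qE_zero, mul_one]
        have hb' : eE (vecOf b) * qE (clsOf b) = (b : Cfsg.Spor.Fi23) := nf_spec b
        have hc : ((a * x : T0) : Cfsg.Spor.Fi23) * b = b * ((a * x : T0) : Cfsg.Spor.Fi23) :=
          congrArg Subtype.val (hcomm _ hmemA b hb)
        rw [← e, ← hb', mul_assoc (eE (vecOf b)), qE_eE (clsOf b).2, ← mul_assoc, ← mul_assoc, eE_mul,
          eE_mul] at hc
        have h2 := eE_inj (Nat.xor_lt_two_pow (n := 11) (vecOf (a * x)).2 (vecOf b).2)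
          (Nat.xor_lt_two_pow (n := 11) (vecOf b).2 (act_lt _ _ _)) (mul_right_cancel hc)
        rw [Nat.xor_comm] at h2
        exact (Nat.xor_right_inj.1 h2).symm
      have hf := fix_ok
      simp only [List.all_eq_true, List.mem_range, beq_iff_eq] at hf
      rw [← hbu]
      rw [hf (clsOf b) (clsOf b).2 (vecOf (a * x)) (vecOf (a * x)).2, beq_iff_eq]
      exact hfix
    · intro x hx y hy hxy
      simp only [Finset.coe_filter, Set.mem_ofPred_eq] at hx hy
      have hz : ∀ z : T0, (clsOf z : ℕ) = v → (clsOf (a * z) : ℕ) = 0 := fun z hz => by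
        rw [(cls_mul a z).1, hz, ← hav, ← (cls_mul a a).1, ← cls_one]
        rw [hsq a ha]
      have h1 : nf (vecOf (a * x), clsOf (a * x)) = nf (vecOf (a * y), clsOf (a * y)) := by
        rw [show vecOf (a * x) = vecOf (a * y) from Fin.ext hxy,
          show clsOf (a * x) = clsOf (a * y) from Fin.ext ((hz x hx.2).trans (hz y hy.2).symm)]
      rw [nf_spec, nf_spec] at h1
      exact mul_left_cancel (Subtype.ext h1)
  have hsum : Nat.card A ≤ s.toFinset.card * F.card := by
    rw [← hS, Finset.card_eq_sum_card_fiberwise (f := fun x => (clsOf x : ℕ)) (t := s.toFinset)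
      (fun x hx => List.mem_toFinset.2 (hBs _ ⟨x, hx, rfl⟩))]
    refine (Finset.sum_le_card_nsmul _ _ _ hfib).trans ?_
    rw [smul_eq_mul]
  have hs1 : (clsOf x₁ : ℕ) ∈ s := hBs _ ⟨x₁, hx₁, rfl⟩
  have hF : F.card ≤ 128 := (Finset.card_le_card (fun m hm => by
    simp only [F, Finset.mem_filter] at hm
    exact Finset.mem_filter.2 ⟨hm.1, hm.2 _ hs1⟩)).trans (fix_card hne (clsOf x₁).2)
  have hlen := List.toFinset_card_le s
  have hbound : s.toFinset.card * F.card < 2048 := by
    simp only [leafOK, Bool.or_eq_true, Nat.ble_eq, Bool.and_eq_true, List.any_eq_true] at hleaf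
    rcases hleaf with (h | h) | ⟨h, v, hv, hv0, u, hu, hvu⟩
    · exact lt_of_le_of_lt (Nat.mul_le_mul (hlen.trans h) hF) (by norm_num)
    · exact lt_of_le_of_lt (Nat.mul_le_mul (hlen.trans h) hF) (by norm_num)
    · simp only [Bool.not_eq_true', beq_eq_false_iff_ne] at hv0 hvu
      have hv128 := hlt v (hsB v hv)
      obtain ⟨m, hm, hmv, hmu⟩ : ∃ m < 2048, (fixMasks.getD v 0).testBit m = true ∧
          (fixMasks.getD u 0).testBit m = false := by
        by_contra hno
        push Not at hno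
        refine hvu (Nat.eq_of_testBit_eq fun m => ?_)
        rw [Nat.testBit_and]
        cases hm : (fixMasks.getD v 0).testBit m
        · rfl
        · rw [Bool.true_and]
          rcases Nat.lt_or_ge m 2048 with hl | hl
          · simpa using hno m hl hm
          · exact absurd hm (by
              rw [Nat.testBit_lt_two_pow ((mask_lt v).trans_le (Nat.pow_le_pow_right (by norm_num) hl))]
              simp)
      have hlt' : F.card < 128 := by
        refine lt_of_lt_of_le ?_ (fix_card hv0 hv128)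
        refine Finset.card_lt_card ⟨fun k hk => ?_, fun hsub => ?_⟩
        · simp only [F, Finset.mem_filter] at hk
          exact Finset.mem_filter.2 ⟨hk.1, hk.2 v hv⟩
        · have := hsub (Finset.mem_filter.2 ⟨Finset.mem_range.2 hm, hmv⟩)
          simp only [F, Finset.mem_filter] at this
          rw [this.2 u hu] at hmu
          exact absurd hmu (by simp)
      exact lt_of_le_of_lt (Nat.mul_le_mul (hlen.trans h) (Nat.le_of_lt_succ hlt' : F.card ≤ 127))
        (by norm_num)
  omega

theorem not_dvd_index : ¬ 2 ∣ T0.index := by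
  have h := T0.card_mul_index
  rw [card_T0, Fi23Order.card_eq] at h
  have h2 : T0.index = 15600091832325 := by
    refine Nat.eq_of_mul_eq_mul_left (show 0 < 2 ^ 18 by norm_num) (h.trans ?_)
    norm_num
  rw [h2]
  norm_num

theorem E0_normal : (E0.subgroupOf T0).Normal :=
  ⟨fun x hx g => Subgroup.mem_subgroupOf.2 (E0_conj g.2 (Subgroup.mem_subgroupOf.1 hx))⟩

/-- The statement about any Sylow 2-subgroup. -/
theorem main (T : Sylow 2 Cfsg.Spor.Fi23) :
    (∀ A : Subgroup Cfsg.Spor.Fi23, A ≤ T → (A.subgroupOf T).Normal → Cfsg.IsElementaryAbelian 2 A →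
        Nat.card A ≤ 2 ^ 11) ∧
    ∃! A : Subgroup Cfsg.Spor.Fi23, A ≤ T ∧ (A.subgroupOf T).Normal ∧ Cfsg.IsElementaryAbelian 2 A ∧
        Nat.card A = 2 ^ 11 := by
  have : Finite Cfsg.Spor.Fi23 := Nat.finite_of_card_ne_zero (by rw [Fi23Order.card_eq]; norm_num)
  have hp : Fact (Nat.Prime 2) := ⟨Nat.prime_two⟩
  let P : Sylow 2 Cfsg.Spor.Fi23 := (IsPGroup.of_card card_T0).toSylow not_dvd_index
  obtain ⟨g, hg⟩ := MulAction.exists_smul_eq Cfsg.Spor.Fi23 P T
  have hT : (T : Subgroup Cfsg.Spor.Fi23) = T0.map (MulAut.conj g).toMonoidHom := by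
    rw [← hg, Sylow.coe_subgroup_smul]
    rfl
  set f := (MulAut.conj g).toMonoidHom
  have hf : Function.Injective f := (MulAut.conj g).injective
  have key : ∀ A : Subgroup Cfsg.Spor.Fi23, A ≤ T → Cfsg.IsElementaryAbelian 2 A → 2 ^ 11 ≤ Nat.card A →
      A = E0.map f := by
    intro A hA hEA hc
    have hsurj : Function.Surjective f := (MulAut.conj g).surjective
    have hback : (A.comap f).map f = A := Subgroup.map_comap_eq_self_of_surjective hsurj A
    have hle : A.comap f ≤ T0 := by
      intro x hx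
      have h1 := hA (Subgroup.mem_comap.1 hx)
      change f x ∈ (T : Subgroup Cfsg.Spor.Fi23) at h1
      rw [hT] at h1
      obtain ⟨y, hy, e⟩ := h1
      exact hf e ▸ hy
    have hEA' : Cfsg.IsElementaryAbelian 2 (A.comap f) := by
      refine ⟨⟨⟨fun a b => Subtype.ext (hf ?_)⟩⟩, fun a ha => hf ?_⟩
      · simp only [Subgroup.coe_mul, map_mul]
        exact congrArg Subtype.val (hEA.1.is_comm.comm ⟨f a, a.2⟩ ⟨f b, b.2⟩)
      · rw [map_pow, map_one]
        exact hEA.2 _ ha
    have hc' : 2 ^ 11 ≤ Nat.card (A.comap f) := by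
      rwa [← Subgroup.card_map_of_injective hf, hback]
    rw [← hback, eq_E0 hle hEA' hc']
  have hcardE : Nat.card (E0.map f) = 2 ^ 11 := by rw [Subgroup.card_map_of_injective hf, card_E0]
  refine ⟨fun A hA _ hEA => ?_, E0.map f, ⟨?_, ?_, ?_, hcardE⟩,
    fun A hA => key A hA.1 hA.2.2.1 hA.2.2.2.ge⟩
  · by_contra h
    have h' := key A hA hEA (by omega)
    rw [h', hcardE] at h
    exact h le_rfl
  · rw [hT]; exact Subgroup.map_mono E0_le
  · refine ⟨fun x hx y => Subgroup.mem_subgroupOf.2 ?_⟩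
    obtain ⟨x', hx', ex⟩ := Subgroup.mem_subgroupOf.1 hx
    obtain ⟨y', hy', ey⟩ : (y : Cfsg.Spor.Fi23) ∈ T0.map f := hT ▸ y.2
    exact ⟨y' * x' * y'⁻¹, E0_conj hy' hx', by simp [← ex, ← ey]⟩
  · refine ⟨⟨⟨fun a b => Subtype.ext ?_⟩⟩, ?_⟩
    · obtain ⟨_, a', ha, rfl⟩ := a
      obtain ⟨_, b', hb, rfl⟩ := b
      show f a' * f b' = f b' * f a'
      rw [← map_mul, ← map_mul]
      exact congrArg f (congrArg Subtype.val (E0_elementary.1.is_comm.comm ⟨a', ha⟩ ⟨b', hb⟩))
    · rintro _ ⟨a', ha, rfl⟩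
      rw [← map_pow, E0_elementary.2 a' ha, map_one]

end CfsgLib.Presented.Fi23SylowTwo

end
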